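import Mathlib

/-!
# Power series facts for the Artin–Schreier substitution `t ↦ t u`, `u ^ n (1 + t ^ n) = 1`
-/

universe u

open PowerSeries

namespace GrothLib.ASTwist

variable {k : Type u} [Field k]

theorem eq_of_pow_eq {n : ℕ} (hn : (n : k) ≠ 0) {x y : PowerSeries k}
    (hx : constantCoeff x = 1) (hy : constantCoeff y = 1) (h : x ^ n = y ^ n) : x = y := by
  have h1 := geom_sum₂_mul x y n
  rw [h, sub_self] at h1
  rcases mul_eq_zero.1 h1 with h2 | h2
  · have := congrArg constantCoeff h2
    simp [hx, hy, hn] at this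
  · exact sub_eq_zero.1 h2

theorem dvd_sub_one_of_pow {n N : ℕ} (hn : (n : k) ≠ 0) {x : PowerSeries k}
    (hx : constantCoeff x = 1) (h : X ^ N ∣ x ^ n - 1) : X ^ N ∣ x - 1 := by
  rw [← geom_sum_mul] at h
  exact (IsUnit.dvd_mul_left (isUnit_iff_constantCoeff.2 (by simp [hx, hn]))).1 h

theorem zpow_eq_one_add {Q : Type u} [CommRing Q] (w : Qˣ) (ε : Q) (hw : (w : Q) = 1 + ε)
    (hε : ε * ε = 0) (i : ℤ) : ((w ^ i : Qˣ) : Q) = 1 + (i : Q) * ε := by
  induction i with
  | zero => simp
  | succ i ih =>
    rw [zpow_add_one, Units.val_mul, ih, hw]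
    push_cast
    linear_combination (i : Q) * hε
  | pred i ih =>
    have hinv : ((w⁻¹ : Qˣ) : Q) = 1 - ε := by
      have h1 : (w : Q) * (1 - ε) = 1 := by rw [hw]; linear_combination -hε
      calc ((w⁻¹ : Qˣ) : Q) = ((w⁻¹ : Qˣ) : Q) * ((w : Q) * (1 - ε)) := by rw [h1, mul_one]
        _ = 1 - ε := by rw [← mul_assoc, Units.inv_mul, one_mul]
    rw [zpow_sub_one, Units.val_mul, ih, hinv]
    push_cast
    linear_combination (i : Q) * hε

theorem constantCoeff_X_mul (u : PowerSeries k) : constantCoeff (X * u) = 0 := by simp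

/-- The substitution `t ↦ t u` as an algebra map. -/
noncomputable def S (u : PowerSeries k) : PowerSeries k →ₐ[k] PowerSeries k :=
  substAlgHom (HasSubst.of_constantCoeff_zero' (constantCoeff_X_mul u))

theorem S_apply (u f : PowerSeries k) : S u f = subst (X * u) f := by
  simp [S, coe_substAlgHom]

theorem S_X (u : PowerSeries k) : S u X = X * u := by
  simp [S, substAlgHom_X]

theorem dvd_S_sub {n : ℕ} {u : PowerSeries k} (hu : X ^ n ∣ u - 1) (h : PowerSeries k) :
    X ^ n ∣ S u h - h := by
  have hd := eq_X_pow_mul_shift_add_trunc n h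
  let π := Ideal.Quotient.mk (Ideal.span {(X : PowerSeries k) ^ n})
  have hπu : π u = 1 := by
    rw [← map_one π, Ideal.Quotient.eq, Ideal.mem_span_singleton]
    exact hu
  have hπX : π (X ^ n) = 0 := Ideal.Quotient.eq_zero_iff_mem.2 (Ideal.mem_span_singleton_self _)
  have key : ∀ p : Polynomial k, π (S u (p : PowerSeries k)) = π (p : PowerSeries k) := by
    intro p
    induction p using Polynomial.induction_on' with
    | add a b ha hb => simp only [Polynomial.coe_add, map_add, ha, hb]
    | monomial j c =>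
      rw [← Polynomial.C_mul_X_pow_eq_monomial]
      simp only [Polynomial.coe_mul, Polynomial.coe_C, Polynomial.coe_pow, Polynomial.coe_X,
        map_mul, map_pow, S_X, hπu, mul_one]
      rw [show (C c : PowerSeries k) = algebraMap k (PowerSeries k) c from rfl, AlgHom.commutes]
  rw [← Ideal.mem_span_singleton, ← Ideal.Quotient.eq]
  show π (S u h) = π h
  rw [hd, map_add, map_add, map_mul, map_add, map_mul, map_pow, S_X, map_pow π (X * u), map_mul π X u,
    hπu, mul_one, ← map_pow, hπX, zero_mul, zero_add, map_mul π (X ^ n), hπX, zero_mul, zero_add]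
  exact key _

end GrothLib.ASTwist
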